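import Cfsg.Agent.Lib.Spor.LyA.Defs

set_option autoImplicit false
set_option maxRecDepth 100000
set_option Elab.async false
set_option exponentiation.threshold 100000

namespace Cfsg.Agent.Spor.LyA
open Cfsg.Agent.PG

theorem cl4_0_0 : chkOn A 16 0 3 (cl4_l) = true := by decide +kernel

theorem cl4_0_3 : chkOn A 16 3 3 (cl4_l) = true := by decide +kernel

theorem cl4_0_6 : chkOn A 16 6 3 (cl4_l) = true := by decide +kernel

theorem cl4_0_9 : chkOn A 16 9 3 (cl4_l) = true := by decide +kernel

theorem cl4_0_12 : chkOn A 16 12 3 (cl4_l) = true := by decide +kernel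

theorem cl4_0_15 : chkOn A 16 15 1 (cl4_l) = true := by decide +kernel

theorem ok4 : plainOK A 67 68 3 tr4 ce4 = true := by decide +kernel

theorem orb4 : orbCardB A 13 67 3 5 5 = true := by decide +kernel

theorem cl3_0_0 : chkOn A 16 0 3 (cl3_l) = true := by decide +kernel

theorem cl3_0_3 : chkOn A 16 3 3 (cl3_l) = true := by decide +kernel

theorem cl3_0_6 : chkOn A 16 6 3 (cl3_l) = true := by decide +kernel

theorem cl3_0_9 : chkOn A 16 9 3 (cl3_l) = true := by decide +kernel

theorem cl3_0_12 : chkOn A 16 12 3 (cl3_l) = true := by decide +kernel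

theorem cl3_0_15 : chkOn A 16 15 1 (cl3_l) = true := by decide +kernel

theorem ok3 : plainOK A 66 67 377 tr3 ce3 = true := by decide +kernel

theorem orb3 : orbCardB A 13 66 377 4 4 = true := by decide +kernel

theorem cl2_0_0 : chkOn A 16 0 3 ((cl2_l).take 26) = true := by decide +kernel

theorem cl2_0_3 : chkOn A 16 3 3 ((cl2_l).take 26) = true := by decide +kernel

theorem cl2_0_6 : chkOn A 16 6 3 ((cl2_l).take 26) = true := by decide +kernel

theorem cl2_0_9 : chkOn A 16 9 3 ((cl2_l).take 26) = true := by decide +kernel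

theorem cl2_0_12 : chkOn A 16 12 3 ((cl2_l).take 26) = true := by decide +kernel

theorem cl2_0_15 : chkOn A 16 15 1 ((cl2_l).take 26) = true := by decide +kernel

theorem cl2_1_0 : chkOn A 16 0 3 (((cl2_l).drop 26).take 19) = true := by decide +kernel

theorem cl2_1_3 : chkOn A 16 3 3 (((cl2_l).drop 26).take 19) = true := by decide +kernel

theorem cl2_1_6 : chkOn A 16 6 3 (((cl2_l).drop 26).take 19) = true := by decide +kernel

theorem cl2_1_9 : chkOn A 16 9 3 (((cl2_l).drop 26).take 19) = true := by decide +kernel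

theorem cl2_1_12 : chkOn A 16 12 3 (((cl2_l).drop 26).take 19) = true := by decide +kernel

theorem cl2_1_15 : chkOn A 16 15 1 (((cl2_l).drop 26).take 19) = true := by decide +kernel

theorem cl2_2_0 : chkOn A 16 0 3 ((((cl2_l).drop 26).drop 19).take 16) = true := by decide +kernel

theorem cl2_2_3 : chkOn A 16 3 3 ((((cl2_l).drop 26).drop 19).take 16) = true := by decide +kernel

theorem cl2_2_6 : chkOn A 16 6 3 ((((cl2_l).drop 26).drop 19).take 16) = true := by decide +kernel

theorem cl2_2_9 : chkOn A 16 9 3 ((((cl2_l).drop 26).drop 19).take 16) = true := by decide +kernel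

theorem cl2_2_12 : chkOn A 16 12 3 ((((cl2_l).drop 26).drop 19).take 16) = true := by decide +kernel

theorem cl2_2_15 : chkOn A 16 15 1 ((((cl2_l).drop 26).drop 19).take 16) = true := by decide +kernel

theorem cl2_3_0 : chkOn A 16 0 3 (((((cl2_l).drop 26).drop 19).drop 16).take 17) = true := by decide +kernel

theorem cl2_3_3 : chkOn A 16 3 3 (((((cl2_l).drop 26).drop 19).drop 16).take 17) = true := by decide +kernel

theorem cl2_3_6 : chkOn A 16 6 3 (((((cl2_l).drop 26).drop 19).drop 16).take 17) = true := by decide +kernel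

theorem cl2_3_9 : chkOn A 16 9 3 (((((cl2_l).drop 26).drop 19).drop 16).take 17) = true := by decide +kernel

theorem cl2_3_12 : chkOn A 16 12 3 (((((cl2_l).drop 26).drop 19).drop 16).take 17) = true := by decide +kernel

theorem cl2_3_15 : chkOn A 16 15 1 (((((cl2_l).drop 26).drop 19).drop 16).take 17) = true := by decide +kernel

theorem cl2_4_0 : chkOn A 16 0 3 ((((((cl2_l).drop 26).drop 19).drop 16).drop 17).take 16) = true := by decide +kernel

theorem cl2_4_3 : chkOn A 16 3 3 ((((((cl2_l).drop 26).drop 19).drop 16).drop 17).take 16) = true := by decide +kernel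

theorem cl2_4_6 : chkOn A 16 6 3 ((((((cl2_l).drop 26).drop 19).drop 16).drop 17).take 16) = true := by decide +kernel

theorem cl2_4_9 : chkOn A 16 9 3 ((((((cl2_l).drop 26).drop 19).drop 16).drop 17).take 16) = true := by decide +kernel

theorem cl2_4_12 : chkOn A 16 12 3 ((((((cl2_l).drop 26).drop 19).drop 16).drop 17).take 16) = true := by decide +kernel

theorem cl2_4_15 : chkOn A 16 15 1 ((((((cl2_l).drop 26).drop 19).drop 16).drop 17).take 16) = true := by decide +kernel

theorem cl2_5_0 : chkOn A 16 0 3 ((((((cl2_l).drop 26).drop 19).drop 16).drop 17).drop 16) = true := by decide +kernel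

theorem cl2_5_3 : chkOn A 16 3 3 ((((((cl2_l).drop 26).drop 19).drop 16).drop 17).drop 16) = true := by decide +kernel

theorem cl2_5_6 : chkOn A 16 6 3 ((((((cl2_l).drop 26).drop 19).drop 16).drop 17).drop 16) = true := by decide +kernel


end Cfsg.Agent.Spor.LyA
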