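import Cfsg.Agent.Lib.Spor.LyA.Defs

set_option autoImplicit false
set_option maxRecDepth 100000
set_option Elab.async false
set_option exponentiation.threshold 100000

namespace Cfsg.Agent.Spor.LyA
open Cfsg.Agent.PG

theorem cl2_5_9 : chkOn A 16 9 3 ((((((cl2_l).drop 26).drop 19).drop 16).drop 17).drop 16) = true := by decide +kernel

theorem cl2_5_12 : chkOn A 16 12 3 ((((((cl2_l).drop 26).drop 19).drop 16).drop 17).drop 16) = true := by decide +kernel

theorem cl2_5_15 : chkOn A 16 15 1 ((((((cl2_l).drop 26).drop 19).drop 16).drop 17).drop 16) = true := by decide +kernel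

theorem ok2 : dcOK A 65 67 362 377 4 cj2 reps2 = true := by decide +kernel

theorem orb2 : orbCardB A 13 65 362 8 100 = true := by decide +kernel

theorem cl1_0_0 : chkOn A 16 0 3 ((cl1_l).take 17) = true := by decide +kernel

theorem cl1_0_3 : chkOn A 16 3 3 ((cl1_l).take 17) = true := by decide +kernel

theorem cl1_0_6 : chkOn A 16 6 3 ((cl1_l).take 17) = true := by decide +kernel

theorem cl1_0_9 : chkOn A 16 9 3 ((cl1_l).take 17) = true := by decide +kernel

theorem cl1_0_12 : chkOn A 16 12 3 ((cl1_l).take 17) = true := by decide +kernel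

theorem cl1_0_15 : chkOn A 16 15 1 ((cl1_l).take 17) = true := by decide +kernel

theorem cl1_1_0 : chkOn A 16 0 3 (((cl1_l).drop 17).take 12) = true := by decide +kernel

theorem cl1_1_3 : chkOn A 16 3 3 (((cl1_l).drop 17).take 12) = true := by decide +kernel

theorem cl1_1_6 : chkOn A 16 6 3 (((cl1_l).drop 17).take 12) = true := by decide +kernel

theorem cl1_1_9 : chkOn A 16 9 3 (((cl1_l).drop 17).take 12) = true := by decide +kernel

theorem cl1_1_12 : chkOn A 16 12 3 (((cl1_l).drop 17).take 12) = true := by decide +kernel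

theorem cl1_1_15 : chkOn A 16 15 1 (((cl1_l).drop 17).take 12) = true := by decide +kernel

theorem cl1_2_0 : chkOn A 16 0 3 ((((cl1_l).drop 17).drop 12).take 12) = true := by decide +kernel

theorem cl1_2_3 : chkOn A 16 3 3 ((((cl1_l).drop 17).drop 12).take 12) = true := by decide +kernel

theorem cl1_2_6 : chkOn A 16 6 3 ((((cl1_l).drop 17).drop 12).take 12) = true := by decide +kernel

theorem cl1_2_9 : chkOn A 16 9 3 ((((cl1_l).drop 17).drop 12).take 12) = true := by decide +kernel

theorem cl1_2_12 : chkOn A 16 12 3 ((((cl1_l).drop 17).drop 12).take 12) = true := by decide +kernel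

theorem cl1_2_15 : chkOn A 16 15 1 ((((cl1_l).drop 17).drop 12).take 12) = true := by decide +kernel

theorem cl1_3_0 : chkOn A 16 0 3 (((((cl1_l).drop 17).drop 12).drop 12).take 12) = true := by decide +kernel

theorem cl1_3_3 : chkOn A 16 3 3 (((((cl1_l).drop 17).drop 12).drop 12).take 12) = true := by decide +kernel

theorem cl1_3_6 : chkOn A 16 6 3 (((((cl1_l).drop 17).drop 12).drop 12).take 12) = true := by decide +kernel

theorem cl1_3_9 : chkOn A 16 9 3 (((((cl1_l).drop 17).drop 12).drop 12).take 12) = true := by decide +kernel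

theorem cl1_3_12 : chkOn A 16 12 3 (((((cl1_l).drop 17).drop 12).drop 12).take 12) = true := by decide +kernel

theorem cl1_3_15 : chkOn A 16 15 1 (((((cl1_l).drop 17).drop 12).drop 12).take 12) = true := by decide +kernel

theorem cl1_4_0 : chkOn A 16 0 3 (((((cl1_l).drop 17).drop 12).drop 12).drop 12) = true := by decide +kernel

theorem cl1_4_3 : chkOn A 16 3 3 (((((cl1_l).drop 17).drop 12).drop 12).drop 12) = true := by decide +kernel

theorem cl1_4_6 : chkOn A 16 6 3 (((((cl1_l).drop 17).drop 12).drop 12).drop 12) = true := by decide +kernel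

theorem cl1_4_9 : chkOn A 16 9 3 (((((cl1_l).drop 17).drop 12).drop 12).drop 12) = true := by decide +kernel

theorem cl1_4_12 : chkOn A 16 12 3 (((((cl1_l).drop 17).drop 12).drop 12).drop 12) = true := by decide +kernel

theorem cl1_4_15 : chkOn A 16 15 1 (((((cl1_l).drop 17).drop 12).drop 12).drop 12) = true := by decide +kernel

theorem ok1 : dcOK A 64 66 11081 362 8 cj1 reps1 = true := by decide +kernel

theorem orb1 : orbCardB A 13 64 11081 6 150 = true := by decide +kernel

theorem cl0_0_0 : chkOn A 16 0 3 ((cl0_l).take 15) = true := by decide +kernel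

theorem cl0_0_3 : chkOn A 16 3 3 ((cl0_l).take 15) = true := by decide +kernel

theorem cl0_0_6 : chkOn A 16 6 3 ((cl0_l).take 15) = true := by decide +kernel

theorem cl0_0_9 : chkOn A 16 9 3 ((cl0_l).take 15) = true := by decide +kernel

theorem cl0_0_12 : chkOn A 16 12 3 ((cl0_l).take 15) = true := by decide +kernel

theorem cl0_0_15 : chkOn A 16 15 1 ((cl0_l).take 15) = true := by decide +kernel


end Cfsg.Agent.Spor.LyA
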