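import Cfsg.Agent.Lib.Spor.LyA.Defs

set_option autoImplicit false
set_option maxRecDepth 100000
set_option Elab.async false
set_option exponentiation.threshold 100000

namespace Cfsg.Agent.Spor.LyA
open Cfsg.Agent.PG

theorem cl0_1_0 : chkOn A 16 0 3 (((cl0_l).drop 15).take 8) = true := by decide +kernel

theorem cl0_1_3 : chkOn A 16 3 3 (((cl0_l).drop 15).take 8) = true := by decide +kernel

theorem cl0_1_6 : chkOn A 16 6 3 (((cl0_l).drop 15).take 8) = true := by decide +kernel

theorem cl0_1_9 : chkOn A 16 9 3 (((cl0_l).drop 15).take 8) = true := by decide +kernel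

theorem cl0_1_12 : chkOn A 16 12 3 (((cl0_l).drop 15).take 8) = true := by decide +kernel

theorem cl0_1_15 : chkOn A 16 15 1 (((cl0_l).drop 15).take 8) = true := by decide +kernel

theorem cl0_2_0 : chkOn A 16 0 3 ((((cl0_l).drop 15).drop 8).take 7) = true := by decide +kernel

theorem cl0_2_3 : chkOn A 16 3 3 ((((cl0_l).drop 15).drop 8).take 7) = true := by decide +kernel

theorem cl0_2_6 : chkOn A 16 6 3 ((((cl0_l).drop 15).drop 8).take 7) = true := by decide +kernel

theorem cl0_2_9 : chkOn A 16 9 3 ((((cl0_l).drop 15).drop 8).take 7) = true := by decide +kernel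

theorem cl0_2_12 : chkOn A 16 12 3 ((((cl0_l).drop 15).drop 8).take 7) = true := by decide +kernel

theorem cl0_2_15 : chkOn A 16 15 1 ((((cl0_l).drop 15).drop 8).take 7) = true := by decide +kernel

theorem cl0_3_0 : chkOn A 16 0 3 (((((cl0_l).drop 15).drop 8).drop 7).take 7) = true := by decide +kernel

theorem cl0_3_3 : chkOn A 16 3 3 (((((cl0_l).drop 15).drop 8).drop 7).take 7) = true := by decide +kernel

theorem cl0_3_6 : chkOn A 16 6 3 (((((cl0_l).drop 15).drop 8).drop 7).take 7) = true := by decide +kernel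

theorem cl0_3_9 : chkOn A 16 9 3 (((((cl0_l).drop 15).drop 8).drop 7).take 7) = true := by decide +kernel

theorem cl0_3_12 : chkOn A 16 12 3 (((((cl0_l).drop 15).drop 8).drop 7).take 7) = true := by decide +kernel

theorem cl0_3_15 : chkOn A 16 15 1 (((((cl0_l).drop 15).drop 8).drop 7).take 7) = true := by decide +kernel

theorem cl0_4_0 : chkOn A 16 0 3 (((((cl0_l).drop 15).drop 8).drop 7).drop 7) = true := by decide +kernel

theorem cl0_4_3 : chkOn A 16 3 3 (((((cl0_l).drop 15).drop 8).drop 7).drop 7) = true := by decide +kernel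

theorem cl0_4_6 : chkOn A 16 6 3 (((((cl0_l).drop 15).drop 8).drop 7).drop 7) = true := by decide +kernel

theorem cl0_4_9 : chkOn A 16 9 3 (((((cl0_l).drop 15).drop 8).drop 7).drop 7) = true := by decide +kernel

theorem cl0_4_12 : chkOn A 16 12 3 (((((cl0_l).drop 15).drop 8).drop 7).drop 7) = true := by decide +kernel

theorem cl0_4_15 : chkOn A 16 15 1 (((((cl0_l).drop 15).drop 8).drop 7).drop 7) = true := by decide +kernel

theorem ok0 : dcOK A 63 65 0 11081 6 cj0 reps0 = true := by decide +kernel

theorem orb0 : orbCardB A 13 63 0 6 19530 = true := by decide +kernel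

theorem ccmx_0_0 : chkOn A 16 0 3 (ccmx_l) = true := by decide +kernel

theorem ccmx_0_3 : chkOn A 16 3 3 (ccmx_l) = true := by decide +kernel

theorem ccmx_0_6 : chkOn A 16 6 3 (ccmx_l) = true := by decide +kernel

theorem ccmx_0_9 : chkOn A 16 9 3 (ccmx_l) = true := by decide +kernel

theorem ccmx_0_12 : chkOn A 16 12 3 (ccmx_l) = true := by decide +kernel

theorem ccmx_0_15 : chkOn A 16 15 1 (ccmx_l) = true := by decide +kernel

theorem cox : orbCardB A 13 63 19530 5 15500 = true := by decide +kernel

theorem clbx : lbQ A 13 cgx clvx [19530] = true := by decide +kernel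

theorem csubx : subOK A 63 19530 5 8 cgx (cgsx.map Prod.fst) = true := by decide +kernel

theorem cncx : allL cgsx (ncB A czx) = true := by decide +kernel

theorem ccmz_0_0 : chkOn A 16 0 3 (ccmz_l) = true := by decide +kernel

theorem ccmz_0_3 : chkOn A 16 3 3 (ccmz_l) = true := by decide +kernel

theorem ccmz_0_6 : chkOn A 16 6 3 (ccmz_l) = true := by decide +kernel

theorem ccmz_0_9 : chkOn A 16 9 3 (ccmz_l) = true := by decide +kernel

theorem ccmz_0_12 : chkOn A 16 12 3 (ccmz_l) = true := by decide +kernel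

theorem ccmz_0_15 : chkOn A 16 15 1 (ccmz_l) = true := by decide +kernel

theorem cchz : force (mvB A 16 czz) (fun mv => ccQ A 13 czz mv (kgens A 63 ++ cgx) cgz tgz tlz lvz []) = true := by decide +kernel


end Cfsg.Agent.Spor.LyA
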