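import Cfsg.Agent.Lib.Spor.LyA.C0
import Cfsg.Agent.Lib.Spor.LyA.C1
import Cfsg.Agent.Lib.Spor.LyA.C2
import Cfsg.Agent.Lib.Spor.LyA.Defs

set_option autoImplicit false
set_option maxRecDepth 100000
set_option Elab.async false
set_option exponentiation.threshold 100000

namespace Cfsg.Agent.Spor.LyA
open Cfsg.Agent.PG

theorem card5 : Nat.card (K A 68) = 1 := card_K_last A (le_of_eq hlen)

theorem cl4 : ∀ c ∈ cl4_l, Holds A c :=
  (fun c hc => HoldsOn.holds hA ((((((chkOn_spec hA cl4_0_0 c hc).append (chkOn_spec hA cl4_0_3 c hc)).append (chkOn_spec hA cl4_0_6 c hc)).append (chkOn_spec hA cl4_0_9 c hc)).append (chkOn_spec hA cl4_0_12 c hc)).append (chkOn_spec hA cl4_0_15 c hc)))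

theorem stab4 : StabIs A 67 3 68 := stabIs_plain hA ok4 cl4

theorem card4 : Nat.card (K A 67) = 5 := card_K_step hA stab4 orb4 card5

theorem cl3 : ∀ c ∈ cl3_l, Holds A c :=
  (fun c hc => HoldsOn.holds hA ((((((chkOn_spec hA cl3_0_0 c hc).append (chkOn_spec hA cl3_0_3 c hc)).append (chkOn_spec hA cl3_0_6 c hc)).append (chkOn_spec hA cl3_0_9 c hc)).append (chkOn_spec hA cl3_0_12 c hc)).append (chkOn_spec hA cl3_0_15 c hc)))

theorem stab3 : StabIs A 66 377 67 := stabIs_plain hA ok3 cl3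

theorem card3 : Nat.card (K A 66) = 20 := card_K_step hA stab3 orb3 card4

theorem cl2 : ∀ c ∈ cl2_l, Holds A c :=
  (forall_take_drop 26 (fun c hc => HoldsOn.holds hA ((((((chkOn_spec hA cl2_0_0 c hc).append (chkOn_spec hA cl2_0_3 c hc)).append (chkOn_spec hA cl2_0_6 c hc)).append (chkOn_spec hA cl2_0_9 c hc)).append (chkOn_spec hA cl2_0_12 c hc)).append (chkOn_spec hA cl2_0_15 c hc)))
  (forall_take_drop 19 (fun c hc => HoldsOn.holds hA ((((((chkOn_spec hA cl2_1_0 c hc).append (chkOn_spec hA cl2_1_3 c hc)).append (chkOn_spec hA cl2_1_6 c hc)).append (chkOn_spec hA cl2_1_9 c hc)).append (chkOn_spec hA cl2_1_12 c hc)).append (chkOn_spec hA cl2_1_15 c hc)))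
  (forall_take_drop 16 (fun c hc => HoldsOn.holds hA ((((((chkOn_spec hA cl2_2_0 c hc).append (chkOn_spec hA cl2_2_3 c hc)).append (chkOn_spec hA cl2_2_6 c hc)).append (chkOn_spec hA cl2_2_9 c hc)).append (chkOn_spec hA cl2_2_12 c hc)).append (chkOn_spec hA cl2_2_15 c hc)))
  (forall_take_drop 17 (fun c hc => HoldsOn.holds hA ((((((chkOn_spec hA cl2_3_0 c hc).append (chkOn_spec hA cl2_3_3 c hc)).append (chkOn_spec hA cl2_3_6 c hc)).append (chkOn_spec hA cl2_3_9 c hc)).append (chkOn_spec hA cl2_3_12 c hc)).append (chkOn_spec hA cl2_3_15 c hc)))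
  (forall_take_drop 16 (fun c hc => HoldsOn.holds hA ((((((chkOn_spec hA cl2_4_0 c hc).append (chkOn_spec hA cl2_4_3 c hc)).append (chkOn_spec hA cl2_4_6 c hc)).append (chkOn_spec hA cl2_4_9 c hc)).append (chkOn_spec hA cl2_4_12 c hc)).append (chkOn_spec hA cl2_4_15 c hc)))
  (fun c hc => HoldsOn.holds hA ((((((chkOn_spec hA cl2_5_0 c hc).append (chkOn_spec hA cl2_5_3 c hc)).append (chkOn_spec hA cl2_5_6 c hc)).append (chkOn_spec hA cl2_5_9 c hc)).append (chkOn_spec hA cl2_5_12 c hc)).append (chkOn_spec hA cl2_5_15 c hc))))))))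

theorem stab2 : StabIs A 65 362 66 := stabIs_dc hA stab3 ok2 cl2

theorem card2 : Nat.card (K A 65) = 2000 := card_K_step hA stab2 orb2 card3

theorem cl1 : ∀ c ∈ cl1_l, Holds A c :=
  (forall_take_drop 17 (fun c hc => HoldsOn.holds hA ((((((chkOn_spec hA cl1_0_0 c hc).append (chkOn_spec hA cl1_0_3 c hc)).append (chkOn_spec hA cl1_0_6 c hc)).append (chkOn_spec hA cl1_0_9 c hc)).append (chkOn_spec hA cl1_0_12 c hc)).append (chkOn_spec hA cl1_0_15 c hc)))
  (forall_take_drop 12 (fun c hc => HoldsOn.holds hA ((((((chkOn_spec hA cl1_1_0 c hc).append (chkOn_spec hA cl1_1_3 c hc)).append (chkOn_spec hA cl1_1_6 c hc)).append (chkOn_spec hA cl1_1_9 c hc)).append (chkOn_spec hA cl1_1_12 c hc)).append (chkOn_spec hA cl1_1_15 c hc)))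
  (forall_take_drop 12 (fun c hc => HoldsOn.holds hA ((((((chkOn_spec hA cl1_2_0 c hc).append (chkOn_spec hA cl1_2_3 c hc)).append (chkOn_spec hA cl1_2_6 c hc)).append (chkOn_spec hA cl1_2_9 c hc)).append (chkOn_spec hA cl1_2_12 c hc)).append (chkOn_spec hA cl1_2_15 c hc)))
  (forall_take_drop 12 (fun c hc => HoldsOn.holds hA ((((((chkOn_spec hA cl1_3_0 c hc).append (chkOn_spec hA cl1_3_3 c hc)).append (chkOn_spec hA cl1_3_6 c hc)).append (chkOn_spec hA cl1_3_9 c hc)).append (chkOn_spec hA cl1_3_12 c hc)).append (chkOn_spec hA cl1_3_15 c hc)))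
  (fun c hc => HoldsOn.holds hA ((((((chkOn_spec hA cl1_4_0 c hc).append (chkOn_spec hA cl1_4_3 c hc)).append (chkOn_spec hA cl1_4_6 c hc)).append (chkOn_spec hA cl1_4_9 c hc)).append (chkOn_spec hA cl1_4_12 c hc)).append (chkOn_spec hA cl1_4_15 c hc)))))))

theorem stab1 : StabIs A 64 11081 65 := stabIs_dc hA stab2 ok1 cl1

theorem card1 : Nat.card (K A 64) = 300000 := card_K_step hA stab1 orb1 card2

theorem cl0 : ∀ c ∈ cl0_l, Holds A c :=
  (forall_take_drop 15 (fun c hc => HoldsOn.holds hA ((((((chkOn_spec hA cl0_0_0 c hc).append (chkOn_spec hA cl0_0_3 c hc)).append (chkOn_spec hA cl0_0_6 c hc)).append (chkOn_spec hA cl0_0_9 c hc)).append (chkOn_spec hA cl0_0_12 c hc)).append (chkOn_spec hA cl0_0_15 c hc)))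
  (forall_take_drop 8 (fun c hc => HoldsOn.holds hA ((((((chkOn_spec hA cl0_1_0 c hc).append (chkOn_spec hA cl0_1_3 c hc)).append (chkOn_spec hA cl0_1_6 c hc)).append (chkOn_spec hA cl0_1_9 c hc)).append (chkOn_spec hA cl0_1_12 c hc)).append (chkOn_spec hA cl0_1_15 c hc)))
  (forall_take_drop 7 (fun c hc => HoldsOn.holds hA ((((((chkOn_spec hA cl0_2_0 c hc).append (chkOn_spec hA cl0_2_3 c hc)).append (chkOn_spec hA cl0_2_6 c hc)).append (chkOn_spec hA cl0_2_9 c hc)).append (chkOn_spec hA cl0_2_12 c hc)).append (chkOn_spec hA cl0_2_15 c hc)))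
  (forall_take_drop 7 (fun c hc => HoldsOn.holds hA ((((((chkOn_spec hA cl0_3_0 c hc).append (chkOn_spec hA cl0_3_3 c hc)).append (chkOn_spec hA cl0_3_6 c hc)).append (chkOn_spec hA cl0_3_9 c hc)).append (chkOn_spec hA cl0_3_12 c hc)).append (chkOn_spec hA cl0_3_15 c hc)))
  (fun c hc => HoldsOn.holds hA ((((((chkOn_spec hA cl0_4_0 c hc).append (chkOn_spec hA cl0_4_3 c hc)).append (chkOn_spec hA cl0_4_6 c hc)).append (chkOn_spec hA cl0_4_9 c hc)).append (chkOn_spec hA cl0_4_12 c hc)).append (chkOn_spec hA cl0_4_15 c hc)))))))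

theorem stab0 : StabIs A 63 0 64 := stabIs_dc hA stab1 ok0 cl0

theorem card0 : Nat.card (K A 63) = 5859000000 := card_K_step hA stab0 orb0 card1

theorem fixTriv0 {B : Set ℕ} (h0 : 0 ∈ B) (h1 : 11081 ∈ B) (h2 : 362 ∈ B) (h3 : 377 ∈ B) (h4 : 3 ∈ B) : FixTriv (K A 63) B :=
  fixTriv_step stab0 h0 <| fixTriv_step stab1 h1 <| fixTriv_step stab2 h2 <| fixTriv_step stab3 h3 <| fixTriv_step stab4 h4 <| fixTriv_last A (le_of_eq hlen) B

theorem fixTriv1 {B : Set ℕ} (h1 : 11081 ∈ B) (h2 : 362 ∈ B) (h3 : 377 ∈ B) (h4 : 3 ∈ B) : FixTriv (K A 64) B :=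
  fixTriv_step stab1 h1 <| fixTriv_step stab2 h2 <| fixTriv_step stab3 h3 <| fixTriv_step stab4 h4 <| fixTriv_last A (le_of_eq hlen) B

theorem fixTriv2 {B : Set ℕ} (h2 : 362 ∈ B) (h3 : 377 ∈ B) (h4 : 3 ∈ B) : FixTriv (K A 65) B :=
  fixTriv_step stab2 h2 <| fixTriv_step stab3 h3 <| fixTriv_step stab4 h4 <| fixTriv_last A (le_of_eq hlen) B

theorem fixTriv3 {B : Set ℕ} (h3 : 377 ∈ B) (h4 : 3 ∈ B) : FixTriv (K A 66) B :=
  fixTriv_step stab3 h3 <| fixTriv_step stab4 h4 <| fixTriv_last A (le_of_eq hlen) B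

theorem fixTriv4 {B : Set ℕ} (h4 : 3 ∈ B) : FixTriv (K A 67) B :=
  fixTriv_step stab4 h4 <| fixTriv_last A (le_of_eq hlen) B

theorem ccmx : ∀ c ∈ ccmx_l, Holds A c :=
  (fun c hc => HoldsOn.holds hA ((((((chkOn_spec hA ccmx_0_0 c hc).append (chkOn_spec hA ccmx_0_3 c hc)).append (chkOn_spec hA ccmx_0_6 c hc)).append (chkOn_spec hA ccmx_0_9 c hc)).append (chkOn_spec hA ccmx_0_12 c hc)).append (chkOn_spec hA ccmx_0_15 c hc)))

theorem centx : CentOK A 63 czx 19530 5 cgx :=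
  centOK_of hA (by decide +kernel) cox (m := 378000) (card0.trans (by norm_num)) (by decide +kernel) clbx (by decide +kernel) ccmx csubx cncx

theorem ccmz : ∀ c ∈ ccmz_l, Holds A c :=
  (fun c hc => HoldsOn.holds hA ((((((chkOn_spec hA ccmz_0_0 c hc).append (chkOn_spec hA ccmz_0_3 c hc)).append (chkOn_spec hA ccmz_0_6 c hc)).append (chkOn_spec hA ccmz_0_9 c hc)).append (chkOn_spec hA ccmz_0_12 c hc)).append (chkOn_spec hA ccmz_0_15 c hc)))


end Cfsg.Agent.Spor.LyA
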